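import Cfsg.Agent.Lib.J4K.Simb
import Cfsg.Agent.Lib.J4K.Exc
import Cfsg.Agent.Lib.J4X.Jof
import Cfsg.Agent.Lib.J4T.HypA
import Cfsg.Agent.Lib.J4T.ExHM
import Cfsg.Agent.Lib.Core.MinNormal
import Cfsg.Agent.S1663

/-!
# The group is of Janko-four type
-/

set_option autoImplicit false
set_option Elab.async false

namespace CfsgLib.J4K

open Cfsg CfsgLib.J4T CfsgLib.ExtraTwo CfsgLib.LargeExtra Subgroup

variable {G : Type*} [Group G] [Finite G]

theorem EM.conj_ρ_mem (m : EM G) {h : G} (hh : m.H h) : h * m.ρ * h⁻¹ ∈ m.N := by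
  rcases m.norm_rho hh with e | e
  · have := mul_mem (m.E_le_N (m.mem_of_com hh e)) m.ρ_mem_N
    rwa [inv_mul_cancel_right] at this
  · have h1 : m.H (h * m.ρ) := m.H_mul hh m.H_ρ
    have h2 : m.H (h * m.ρ * h⁻¹) := m.H_mul h1 (m.H_inv hh)
    have h3 : m.ρ * (h * m.ρ * h⁻¹) ∈ m.E := m.mem_E_of_α (m.H_mul m.H_ρ h2) fun v hv => by
      rw [m.α_mul m.H_ρ h2, m.α_mul h1 (m.H_inv hh), m.α_mul hh m.H_ρ, m.α_ρ (m.α_lt _ _), m.α_ρ (m.α_lt _ _),
        e _ (m.α_lt _ _), m.α_α_inv hh hv, rh_three v hv]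
    have := mul_mem (inv_mem m.ρ_mem_N) (m.E_le_N h3)
    rwa [inv_mul_cancel_left] at this

theorem EM.conj_N (m : EM G) {h n : G} (hh : m.H h) (hn : n ∈ m.N) : h * n * h⁻¹ ∈ m.N := by
  have : m.N ≤ m.N.comap (MulAut.conj h).toMonoidHom :=
    sup_le (fun e he => m.E_le_N (m.norm hh he)) (zpowers_le.2 (m.conj_ρ_mem hh))
  exact this hn

theorem EM.orderOf_ρ (m : EM G) : orderOf m.ρ = 3 := by
  have : Fact (Nat.Prime 3) := ⟨Nat.prime_three⟩
  refine orderOf_eq_prime m.ρ_three fun e => ?_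
  have h := m.χ_ρ
  rw [e, m.χ_one] at h
  omega

theorem EM.janko (m : EM G) : IsOfJankoFourType G := by
  have hB := m.big
  have pre := m.ec.pre
  have hH : ∀ x : centralizer ({m.ζ 4} : Set G), m.H x := fun x => m.H_iff_mem.2 x.2
  have hMC : m.H0 ≤ centralizer ({m.ζ 4} : Set G) := fun x hx => m.H_iff_mem.1 (m.mem_H0.1 hx).1
  have hNC : m.N ≤ centralizer ({m.ζ 4} : Set G) := m.N_le_H0.trans hMC
  obtain ⟨Q, hQ⟩ : ∃ Q, Q = m.E.subgroupOf (centralizer ({m.ζ 4} : Set G)) := ⟨_, rfl⟩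
  obtain ⟨N, hN⟩ : ∃ N, N = m.N.subgroupOf (centralizer ({m.ζ 4} : Set G)) := ⟨_, rfl⟩
  obtain ⟨M, hM⟩ : ∃ M, M = m.H0.subgroupOf (centralizer ({m.ζ 4} : Set G)) := ⟨_, rfl⟩
  have mN : ∀ x, x ∈ N ↔ (x : G) ∈ m.N := fun x => by rw [hN]; rfl
  have mM : ∀ x, x ∈ M ↔ (x : G) ∈ m.H0 := fun x => by rw [hM]; rfl
  have aQ : amb Q = m.E := by rw [hQ]; exact pre.amb_subgroupOf
  have nQ : Q.Normal := by rw [hQ]; exact pre.normal_subgroupOf
  have nN : N.Normal := ⟨fun x hx g => (mN _).2 (m.conj_N (hH g) ((mN x).1 hx))⟩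
  have iM : M.index = 2 := by rw [hM]; exact m.index_H0
  have nM : M.Normal := normal_of_index_eq_two iM
  have hNM : N ≤ M := fun x hx => (mM x).2 (m.N_le_H0 ((mN x).1 hx))
  have cQ : Nat.card Q = 2 ^ 13 := by rw [← card_amb, aQ, m.ec.card]; rfl
  have cN : Nat.card N = 24576 := by
    rw [hN, Nat.card_congr (subgroupOfEquivOfLe hNC).toEquiv, m.card_N]
  have cM : Nat.card M = 10899947520 := by
    rw [hM, Nat.card_congr (subgroupOfEquivOfLe hMC).toEquiv, m.card_H0 hB]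
  have cq : Nat.card (M ⧸ N.subgroupOf M) = 443520 := by
    have e := (N.subgroupOf M).card_mul_index
    rw [Nat.card_congr (subgroupOfEquivOfLe hNM).toEquiv, cN, cM, index_eq_card] at e
    omega
  have hs : IsSimpleGroup (M ⧸ N.subgroupOf M) := by
    refine CfsgLib.Core.isSimpleGroup_quotient_of_maximal_normal (fun e => ?_) fun R hR hle => ?_
    · have e' := (N.subgroupOf M).index_eq_card
      rw [cq, e, index_top] at e'
      omega
    · have mem : ∀ x : M, ((x : centralizer ({m.ζ 4} : Set G)) : G) ∈ amb (R.map M.subtype) ↔ x ∈ R := fun x => by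
        rw [coe_mem_amb]
        exact mem_map_iff_mem M.subtype_injective
      refine (m.simple hB (R := amb (R.map M.subtype)) (fun n hn => ?_) ?_ ?_).imp (fun e => ?_) fun e => ?_
      · exact (mem ⟨⟨n, hNC hn⟩, hNM ((mN _).2 hn)⟩).2 (hle ((mN _).2 hn))
      · rintro _ ⟨_, ⟨x, -, rfl⟩, rfl⟩
        exact (mM _).1 x.2
      · rintro h hh _ ⟨_, ⟨x, hx, rfl⟩, rfl⟩
        exact (mem _).2 (hR.conj_mem x hx ⟨⟨h, hMC hh⟩, (mM _).2 hh⟩)
      · ext x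
        rw [← mem, e, mem_subgroupOf, mN]
      · rw [eq_top_iff]
        intro x _
        rw [← mem, e]
        exact (mM _).1 x.2
  have hA := aut_of_index_two dd_equiv hNM iM
    (fun c hc => (mM c).2 (m.hout hB (hH c) fun g hg => (mN _).1 (hc ⟨g, hMC hg⟩ ((mM _).2 hg))))
    (Cfsg.Agent.S1663.result ⟨hs, cq⟩)
  obtain ⟨b, -⟩ := base_of_core dd_equiv Q N (aQ ▸ pre) cQ
    (fun x hx => (mN x).2 (m.E_le_N (aQ ▸ coe_mem_amb.2 hx))) (by rw [cN, cQ]; rfl) hA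
    (r := ⟨m.ρ, hNC m.ρ_mem_N⟩) ((mN _).2 m.ρ_mem_N) (by rw [orderOf_mk]; exact m.orderOf_ρ) fun e he h => by
      rw [aQ] at he
      have h1 : m.ρ * e * m.ρ⁻¹ = e := by rw [mul_inv_eq_iff_eq_mul]; exact h.symm
      have h2 := m.ε_ρ e he
      rw [h1] at h2
      exact (m.ε_zero e he).1 (rh_ne _ (m.ε_lt e) h2.symm)
  obtain ⟨h, -⟩ := b.exists_HM
  exact ⟨_, _, CfsgLib.J4X.jof h⟩

end CfsgLib.J4K
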