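import Cfsg.Agent.Lib.J4K.Pair
import Cfsg.Agent.S1169
import Cfsg.Agent.Lib.BCor.Str

/-!
# `C(z)` does not lie in `K`
-/

set_option autoImplicit false
set_option Elab.async false

namespace CfsgLib.J4K

open Cfsg CfsgLib.J4T CfsgLib.ExtraTwo CfsgLib.LargeExtra Subgroup CfsgLib.Golay

theorem cof_fix_two : ∀ b ∈ g3L, mm3 b b = 273 → ∃ r < 8, ∃ s < 8, r ≠ 0 ∧ s ≠ 0 ∧ r ≠ s ∧ cof b r = r ∧
    cof b s = s := by decide +kernel

theorem cof_fix_c4 : ∀ b ∈ c4L, b ≠ 273 → ∀ t < 8, cof b t = t → t ∈ [0, 2, 4, 6] := by decide +kernel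

/-- the elements of `S5` of order at most 2 -/
def i5L : List ℕ := [5064, 8580, 12740, 12876, 18467, 18663, 24471, 27999, 31011, 32475, 33825, 33901, 33957,
  34025, 35858, 36054, 38689, 42273, 46625, 48402, 50225, 50421, 56190, 59898, 62769, 64182]

theorem mem_i5L : ∀ a ∈ s5L, mm4 a a = 33825 → a ∈ i5L := by decide +kernel

theorem no_eight : ∀ a ∈ i5L, ∀ b ∈ i5L, mm4 a b = mm4 b a → ∀ d ∈ i5L, mm4 a d = mm4 d a → mm4 b d = mm4 d b →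
    a = 33825 ∨ b = 33825 ∨ d = 33825 ∨ mm4 a b = 33825 ∨ mm4 a d = 33825 ∨ mm4 b d = 33825 ∨
      mm4 (mm4 a b) d = 33825 := by decide +kernel

theorem cnt_fix : ∀ a ∈ i5L, a = 33825 ∨ ((Finset.range 16).filter fun n => ap4 a n = n).card = 4 := by
  decide +kernel

theorem act_nib {a v : ℕ} (h : act a 273 v = v) :
    ap4 a (v % 16) = v % 16 ∧ ap4 a (v / 16 % 16) = v / 16 % 16 ∧ ap4 a (v / 256) = v / 256 := by
  have k : ∀ p < 16, ∀ q < 16, ∀ r < 16, (p * sp 273 ^^^ q * sp (273 >>> 3)) ^^^ r * sp (273 >>> 6) =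
      p + 16 * q + 256 * r := by decide +kernel
  have h0 := ap4_lt a v
  have h1 := ap4_lt a (v >>> 4)
  have h2 := ap4_lt a (v >>> 8)
  rw [act_def, k _ h0 _ h1 _ h2] at h
  simp only [Nat.shiftRight_eq_div_pow, ap4_mod] at *
  norm_num at *
  omega

theorem cm_ne_seven : ∀ w < 4096, ∀ i < 12, cm (2 ^ i) w ≠ 7 := ball (by decide +kernel)

variable {G : Type*} [Group G] [Finite G]

namespace KC

variable (c : KC G)

omit [Finite G] in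
theorem card_fixSub (k : G) : Nat.card (c.fixSub k) =
    ((Finset.range 4096).filter fun v => act (c.σ k) (c.χ k) v = v).card * 8 := by
  refine c.card_over_Z (A := c.fixSub k)
    (fun x hx => ⟨c.Z_le_L hx, by rw [(c.π_zero x (c.Z_le_L hx)).2 hx, act_zero]⟩) (fun x hx => hx.1) _ fun v => ?_
  rw [Finset.mem_filter, Finset.mem_range]
  refine ⟨fun ⟨h1, h2⟩ => ?_, ?_⟩
  · obtain ⟨l, hl, rfl⟩ := c.π_surj v h1
    exact ⟨l, ⟨hl, h2⟩, rfl⟩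
  · rintro ⟨l, hl, rfl⟩
    exact ⟨c.π_lt l, hl.2⟩

theorem le_card_fixSub {y : G} (hy : y ∈ c.K) (hyy : y * y = 1) : 512 ≤ Nat.card (c.fixSub y) := by
  have h1 := card_le_of_fib c.L (c.fixSub y) (fun l => act (c.σ y) (c.χ y) (c.π l) ^^^ c.π l)
    ((Finset.range 4096).filter fun v => act (c.σ y) (c.χ y) v = v) (fun l hl => by
      rw [Finset.mem_filter, Finset.mem_range, act_xor, ← c.act_L y hy l hl,
        ← c.act_L y hy _ (c.conj_L y hy l hl), Nat.xor_comm (c.π (y * l * y⁻¹))]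
      refine ⟨xor_lt' (c.π_lt _) (c.π_lt _), ?_⟩
      congr 2
      calc y * (y * l * y⁻¹) * y⁻¹ = y * y * l * (y * y)⁻¹ := by group
        _ = l := by rw [hyy]; group) fun l hl l' hl' e => c.inv_mul_mem_fixSub hl hl' e
  rw [c.card_L, inf_eq_right.2 (fun x hx => hx.1 : c.fixSub y ≤ c.L)] at h1
  rw [c.card_fixSub] at *
  nlinarith

omit [Finite G] in
/-- the fibres of `l ↦ [y, l]` -/
theorem comm_fib {y l l' : G} (e : y * l * y⁻¹ * l⁻¹ = y * l' * y⁻¹ * l'⁻¹) :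
    l⁻¹ * l' ∈ centralizer ({y} : Set G) := by
  rw [mem_cent]
  calc l⁻¹ * l' * y = l⁻¹ * (y * l' * y⁻¹ * l'⁻¹)⁻¹ * y * l' := by group
    _ = y * (l⁻¹ * l') := by rw [← e]; group

theorem card_cent_le {y : G} (hy : y ∈ c.K) (hyy : y * y = 1) (h1 : c.χ y = 273) (h2 : y ∉ c.L) {X : Subgroup G}
    (hX : X ≤ c.fixSub y) : Nat.card X ≤ 512 := by
  have h3 := (cnt_fix _ (mem_i5L _ (c.σ_mem hy) (c.σ_sq hy hyy))).resolve_left fun e => h2 (c.mem_L hy e h1)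
  have h4 := card_le_of_fib X c.Z (fun l => (c.π l % 16, c.π l / 16 % 16, c.π l / 256))
    (((Finset.range 16).filter fun n => ap4 (c.σ y) n = n) ×ˢ ((Finset.range 16).filter fun n => ap4 (c.σ y) n = n) ×ˢ
      ((Finset.range 16).filter fun n => ap4 (c.σ y) n = n)) (fun l hl => by
      have := act_nib (h1 ▸ (hX hl).2)
      have := c.π_lt l
      simp only [Finset.mem_product, Finset.mem_filter, Finset.mem_range]
      omega) fun l hl l' hl' e => (c.π_eq_iff (hX hl).1 (hX hl').1).1 (by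
      simp only [Prod.mk.injEq] at e
      omega)
  have h5 := card_le_of_le (inf_le_right : X ⊓ c.Z ≤ c.Z)
  rw [c.card_Z] at h5
  rw [Finset.card_product, Finset.card_product, h3] at h4
  omega

omit [Finite G] in
theorem cj_Z {k : G} (hk : k ∈ c.K) (g : G) {x : G} : x ∈ Tech.cj (g * k) c.Z ↔ x ∈ Tech.cj g c.Z := by
  rw [Tech.cj_mul, (Tech.mem_normalizer_iff_cj (g := k) (H := c.Z)).1 (c.hK ▸ hk)]

omit [Finite G] in
theorem cj_sq {g y : G} (hy : y ∈ Tech.cj g c.Z) : y * y = 1 := by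
  have := c.Z_sq (Tech.mem_cj.1 hy)
  calc y * y = g * (g⁻¹ * y * g * (g⁻¹ * y * g)) * g⁻¹ := by group
    _ = 1 := by rw [this]; group

omit [Finite G] in
theorem cj_comm {g y y' : G} (hy : y ∈ Tech.cj g c.Z) (hy' : y' ∈ Tech.cj g c.Z) : y * y' = y' * y := by
  rw [← inv_eq_of_mul_eq_one_right (c.cj_sq (mul_mem hy hy')), mul_inv_rev,
    inv_eq_of_mul_eq_one_right (c.cj_sq hy), inv_eq_of_mul_eq_one_right (c.cj_sq hy')]

omit [Finite G] in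
/-- an involution of `K` centralises two involutions of `Z` -/
theorem exists_fix_pair {y : G} (hy : y ∈ c.K) (hyy : y * y = 1) :
    ∃ k ∈ c.K, k * y * k⁻¹ * c.ζ 2 = c.ζ 2 * (k * y * k⁻¹) ∧ k * y * k⁻¹ * c.ζ 4 = c.ζ 4 * (k * y * k⁻¹) := by
  obtain ⟨r, hr, s, hs, r0, s0, rs, e1, e2⟩ := cof_fix_two _ (c.χ_mem _ hy) (c.χ_sq hy hyy)
  obtain ⟨k, hk, a1, a2⟩ := c.exists_conj_pair hr hs r0 s0 rs
  exact ⟨k, hk, by rw [← a1, conj_mul, conj_mul, (c.comm_ζ_iff hy hr).2 e1],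
    by rw [← a2, conj_mul, conj_mul, (c.comm_ζ_iff hy hs).2 e2]⟩

section
variable {c} (hC : ∀ h, c.H h → h ∈ c.K)
include hC

omit [Finite G] in
theorem ti {g x : G} (hx : x ∈ c.Z) (h1 : x ≠ 1) (hg : g * x * g⁻¹ ∈ c.Z) : g ∈ c.K := by
  obtain ⟨t, ht, rfl⟩ := (c.mem_Z x).1 hx
  obtain ⟨s, hs, e⟩ := (c.mem_Z _).1 hg
  obtain ⟨k, hk, e1⟩ := c.exists_conj_four ht (by rintro rfl; exact h1 c.ζ_zero)
  obtain ⟨k', hk', e2⟩ := c.exists_conj_four hs (by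
    rintro rfl
    rw [c.ζ_zero, conj_eq_one_iff] at e
    exact h1 e)
  have := hC (k' * g * k⁻¹) (mul_inv_eq_iff_eq_mul.1 (by
    conv_lhs => rw [← e1]
    rw [← e2, ← e]; group))
  simpa [mul_assoc] using mul_mem (mul_mem (inv_mem hk') this) hk

omit [Finite G] in
theorem cent_cj {g x y : G} (hy : y ∈ Tech.cj g c.Z) (h1 : y ≠ 1) (e : x * y = y * x) : x ∈ Tech.cj g c.K := by
  refine Tech.mem_cj.2 (ti hC (Tech.mem_cj.1 hy) (fun e' => h1 ?_) ?_)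
  · rwa [mul_assoc, inv_mul_eq_one, eq_comm, mul_eq_right] at e'
  · convert Tech.mem_cj.1 hy using 1
    calc _ = g⁻¹ * (x * y) * x⁻¹ * g := by group
      _ = _ := by rw [e]; group

omit [Finite G] in
theorem cent_Z {x y : G} (hy : y ∈ c.Z) (h1 : y ≠ 1) (e : x * y = y * x) : x ∈ c.K :=
  ti hC hy h1 (by rwa [e, mul_inv_cancel_right])

variable {g : G} (hg : g ∉ c.K)
include hg

omit [Finite G] in
theorem disj {x : G} (h1 : x ∈ c.Z) (h2 : x ∈ Tech.cj g c.Z) : x = 1 := by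
  by_contra h
  exact hg (inv_mem_iff.1 (ti hC h1 h (by simpa using Tech.mem_cj.1 h2)))

omit [Finite G] in
theorem star {x y : G} (h1 : x ∈ c.Z) (h2 : x ∈ Tech.cj g c.K) (h3 : y ∈ Tech.cj g c.Z) (h4 : y ∈ c.K) :
    y * x = x * y := by
  have := disj hC hg (mul_mem (c.Z_conj h4 h1) (inv_mem h1)) (c.comm_cj h2 h3)
  rwa [mul_inv_eq_one, mul_inv_eq_iff_eq_mul] at this

theorem case_two {y y' : G} (hy : y ∈ Tech.cj g c.Z) (hy' : y' ∈ Tech.cj g c.Z) (y1 : y ≠ 1) (k1 : y ∈ c.K)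
    (k2 : y' ∈ c.K) (b1 : c.χ y ∈ c4L) (b2 : c.χ y' ∈ c4L) (n1 : c.χ y ≠ 273) (n2 : c.χ y' ≠ 273)
    (n3 : c.χ y ≠ c.χ y') : False := by
  classical
  have hyy := c.cj_sq hy
  have h1 : ∀ x ∈ Tech.cj g c.Z, x ∈ c.L → x = 1 := fun x hx hL => by
    by_contra h
    exact n1 (c.χ_eq_one_of_comm k1 fun t ht =>
      star hC hg (c.ζ_mem_Z ht) (cent_cj hC hx h (c.ζ_comm hL ht).symm) hy k1)
  have h2 : ∀ x ∈ c.Z, y * x = x * y → x ∈ ([0, 2, 4, 6].map c.ζ).toFinset := fun x hx e => by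
    obtain ⟨t, ht, rfl⟩ := (c.mem_Z x).1 hx
    exact List.mem_toFinset.2 (List.mem_map_of_mem (cof_fix_c4 _ b1 n1 t ht ((c.comm_ζ_iff k1 ht).1 e)))
  have h3 : ([0, 2, 4, 6].map c.ζ).toFinset.card ≤ 4 := List.toFinset_card_le _
  have h4 := card_le_of_fib (c.fixSub y) (centralizer {y}) (fun l => y * l * y⁻¹ * l⁻¹) _ (fun l hl => by
    have hZ : y * l * y⁻¹ * l⁻¹ ∈ c.Z := (c.π_zero _ (mul_mem (c.conj_L y k1 l hl.1) (inv_mem hl.1))).1 (by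
      rw [c.π_comm k1 hl.1, hl.2, Nat.xor_self])
    refine h2 _ hZ ?_
    calc y * (y * l * y⁻¹ * l⁻¹) = y * y * (l * y⁻¹ * l⁻¹ * y⁻¹ * y) := by group
      _ = (y * l * y⁻¹ * l⁻¹)⁻¹ * y := by
        rw [hyy, one_mul, mul_inv_rev, mul_inv_rev, mul_inv_rev, inv_inv, inv_inv,
          inv_eq_of_mul_eq_one_right hyy]; group
      _ = _ := by rw [inv_eq_of_mul_eq_one_right (c.Z_sq hZ)]) fun l _ l' _ e => comm_fib e
  have h5 := c.card_fix_two k1 k2 b1 b2 n1 n2 n3 (X := c.fixSub y ⊓ centralizer {y}) inf_le_left fun l hl =>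
    c.mem_fixSub_of_comm k2 hl.1.1 (by
      have := h1 _ (c.comm_cj (cent_cj hC hy y1 (mem_cent.1 hl.2)) hy')
        (mul_mem (c.conj_L _ k2 l hl.1.1) (inv_mem hl.1.1))
      rwa [mul_inv_eq_one, mul_inv_eq_iff_eq_mul] at this)
  have h6 := card_le_finset (c.fixSub y ⊓ centralizer {y} ⊓ c.Z) _ fun x hx => h2 x hx.2 (mem_cent.1 hx.1.2).symm
  have h7 := c.le_card_fixSub k1 hyy
  have := h4.trans (Nat.mul_le_mul_right _ h3)
  omega

/-- `Z ^ g` centralises `Z` -/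
theorem case_three (hK : Tech.cj g c.Z ≤ c.K) (hχ : ∀ x ∈ Tech.cj g c.Z, c.χ x = 273) : False := by
  classical
  have hm : ∀ t < 8, g * c.ζ t * g⁻¹ ∈ Tech.cj g c.Z := fun t ht => Tech.conj_mem_cj.2 (c.ζ_mem_Z ht)
  have hne : ∀ t < 8, t ≠ 0 → g * c.ζ t * g⁻¹ ≠ 1 := fun t ht t0 e => c.ζ_ne_one ht t0 (conj_eq_one_iff.1 e)
  have hσ : ∀ t < 8, ∀ s < 8, c.σ (g * c.ζ (t ^^^ s) * g⁻¹) = mm4 (c.σ (g * c.ζ t * g⁻¹)) (c.σ (g * c.ζ s * g⁻¹)) :=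
    fun t ht s hs => by rw [← c.σ_mul (hK (hm t ht)) (hK (hm s hs)), conj_mul, c.ζ_mul t ht s hs]
  have hi : ∀ t < 8, c.σ (g * c.ζ t * g⁻¹) ∈ i5L := fun t ht =>
    mem_i5L _ (c.σ_mem (hK (hm t ht))) (c.σ_sq (hK (hm t ht)) (c.cj_sq (hm t ht)))
  obtain ⟨t, ht, t0, e⟩ : ∃ t < 8, t ≠ 0 ∧ c.σ (g * c.ζ t * g⁻¹) = 33825 := by
    have := no_eight _ (hi 1 (by norm_num)) _ (hi 2 (by norm_num))
      (by rw [← hσ 1 (by norm_num) 2 (by norm_num), ← hσ 2 (by norm_num) 1 (by norm_num), Nat.xor_comm])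
      _ (hi 4 (by norm_num))
      (by rw [← hσ 1 (by norm_num) 4 (by norm_num), ← hσ 4 (by norm_num) 1 (by norm_num), Nat.xor_comm])
      (by rw [← hσ 2 (by norm_num) 4 (by norm_num), ← hσ 4 (by norm_num) 2 (by norm_num), Nat.xor_comm])
    rw [← hσ 1 (by norm_num) 2 (by norm_num), ← hσ 1 (by norm_num) 4 (by norm_num),
      ← hσ 2 (by norm_num) 4 (by norm_num), ← hσ (1 ^^^ 2) (by decide) 4 (by norm_num)] at this
    rcases this with e | e | e | e | e | e | e <;> exact ⟨_, by decide, by decide, e⟩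
  obtain ⟨y, hy, y1, hL⟩ : ∃ y ∈ Tech.cj g c.Z, y ≠ 1 ∧ y ∈ c.L :=
    ⟨_, hm t ht, hne t ht t0, c.mem_L (hK (hm t ht)) e (hχ _ (hm t ht))⟩
  by_cases hZL : Tech.cj g c.Z ≤ c.L
  · obtain ⟨i, hi, -, -, e1, -⟩ := cm_two _ (c.π_lt y) fun e => y1 (disj hC hg ((c.π_zero y hL).1 e) hy)
    obtain ⟨l, hl, e2⟩ := c.π_surj (2 ^ i) (Nat.pow_lt_pow_right (n := 12) (by norm_num) hi)
    obtain ⟨r, hr, s, hs, rs, e3⟩ := Finset.exists_ne_map_eq_of_card_lt_of_maps_to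
      (s := Finset.range 8) (t := Finset.range 7) (by simp) (f := fun t => cm (2 ^ i) (c.π (g * c.ζ t * g⁻¹)))
      fun t _ => by
        have := cm_lt (2 ^ i) (c.π (g * c.ζ t * g⁻¹))
        have := cm_ne_seven _ (c.π_lt (g * c.ζ t * g⁻¹)) i hi
        simp only [Finset.coe_range, Set.mem_Iio]
        omega
    rw [Finset.mem_range] at hr hs
    have hu := xor_lt (n := 3) hr hs
    have k1 := cent_cj hC (hm _ hu) (hne _ hu fun e => rs (Nat.xor_eq_zero_iff.1 e))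
      ((c.comm_iff hl (hZL (hm _ hu))).2 (by
        rw [← c.ζ_mul r hr s hs, ← conj_mul, c.π_mul _ (hZL (hm r hr)) _ (hZL (hm s hs)), cm_xor_right, e2, e3,
          Nat.xor_self]))
    have k2 := c.comm_cj k1 hy
    rw [c.commutator_eq hL hl] at k2
    exact e1 (by rw [← e2, cm_comm]; exact c.ζ_eq_one _ (cm_lt _ _) (disj hC hg (c.ζ_mem_Z (cm_lt _ _)) k2))
  obtain ⟨s, hs, hsL⟩ := SetLike.not_le_iff_exists.1 hZL
  have h1 := card_le_of_fib c.L (centralizer {y}) (fun l => cm (c.π l) (c.π y)) (Finset.range 8)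
    (fun l _ => Finset.mem_range.2 (cm_lt _ _)) fun l hl l' hl' e => mem_cent.2
      ((c.comm_iff (mul_mem (inv_mem hl) hl') hL).2 (by
        rw [c.π_mul _ (inv_mem hl) _ hl', c.π_inv hl, cm_xor_left, e, Nat.xor_self]))
  have h0 : ∀ x ∈ Tech.cj g c.Z, x ∈ (Finset.range 8).image fun t => g * c.ζ t * g⁻¹ := fun x hx => by
    obtain ⟨t, ht, e⟩ := (c.mem_Z _).1 (Tech.mem_cj.1 hx)
    exact Finset.mem_image.2 ⟨t, Finset.mem_range.2 ht, by rw [← e]; group⟩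
  have h2 := card_le_of_fib (c.L ⊓ centralizer {y}) (centralizer {s}) (fun l => s * l * s⁻¹ * l⁻¹)
    (((Finset.range 8).image fun t => g * c.ζ t * g⁻¹).erase s) (fun l hl => Finset.mem_erase.2
      ⟨fun e => hsL (e ▸ mul_mem (c.conj_L _ (hK hs) l hl.1) (inv_mem hl.1)),
        h0 _ (c.comm_cj (cent_cj hC hy y1 (mem_cent.1 hl.2)) hs)⟩) fun l _ l' _ e => comm_fib e
  have h3 := c.card_cent_le (hK hs) (c.cj_sq hs) (hχ s hs) hsL (X := c.L ⊓ centralizer {y} ⊓ centralizer {s})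
    fun l hl => c.mem_fixSub_of_comm (hK hs) hl.1.1 (mem_cent.1 hl.2).symm
  have h4 : ((Finset.range 8).image fun t => g * c.ζ t * g⁻¹).card ≤ 8 :=
    Finset.card_image_le.trans (Finset.card_range 8).le
  rw [Finset.card_erase_of_mem (h0 s hs)] at h2
  rw [c.card_L, Finset.card_range] at h1
  have := h2.trans (Nat.mul_le_mul (Nat.sub_le_sub_right h4 1) h3)
  omega

theorem notle_core (h2 : c.ζ 2 ∈ Tech.cj g c.K) (h4 : c.ζ 4 ∈ Tech.cj g c.K) : False := by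
  obtain ⟨k, hk, a2, a4⟩ := c.exists_fix_pair (Tech.mem_cj.1 h4) (by
    rw [show g⁻¹ * c.ζ 4 * g * (g⁻¹ * c.ζ 4 * g) = g⁻¹ * (c.ζ 4 * c.ζ 4) * g by group, c.ζ_sq (by norm_num)]
    group)
  have hm : ∀ t < 8, g * k⁻¹ * c.ζ t * (g * k⁻¹)⁻¹ ∈ Tech.cj g c.Z := fun t ht =>
    (c.cj_Z (inv_mem hk) g).1 (Tech.conj_mem_cj.2 (c.ζ_mem_Z ht))
  have hne : ∀ t < 8, t ≠ 0 → g * k⁻¹ * c.ζ t * (g * k⁻¹)⁻¹ ≠ 1 := fun t ht t0 e =>
    c.ζ_ne_one ht t0 (conj_eq_one_iff.1 e)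
  have b4 : ∀ {t}, k * (g⁻¹ * c.ζ 4 * g) * k⁻¹ * c.ζ t = c.ζ t * (k * (g⁻¹ * c.ζ 4 * g) * k⁻¹) →
      c.H (g * k⁻¹ * c.ζ t * (g * k⁻¹)⁻¹) := fun {t} e => by
    rw [KC.H]
    calc _ = g * k⁻¹ * (c.ζ t * (k * (g⁻¹ * c.ζ 4 * g) * k⁻¹)) * (g * k⁻¹)⁻¹ := by group
      _ = _ := by rw [← e]; group
  have k2 := hC _ (b4 a2)
  have k4 := hC _ (b4 a4)
  have m2 := hm 2 (by norm_num)
  have m4 := hm 4 (by norm_num)
  have key : ∀ y ∈ Tech.cj g c.Z, y ≠ 1 → y ∈ c.K → c.χ y ≠ 273 := fun y hy y1 hyK e => by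
    have hZ : ∀ t < 8, c.ζ t ∈ Tech.cj g c.K := fun t ht => cent_cj hC hy y1 (c.comm_of_χ hyK e ht).symm
    have hu : ∀ t < 8, (g * k⁻¹)⁻¹ * c.ζ t * (g * k⁻¹) ∈ c.K := fun t ht => by
      convert mul_mem (mul_mem hk (Tech.mem_cj.1 (hZ t ht))) (inv_mem hk) using 1; group
    have hv : ∀ t < 8, ∀ {s}, s < 8 → g * k⁻¹ * c.ζ s * (g * k⁻¹)⁻¹ ∈ c.K →
        (g * k⁻¹)⁻¹ * c.ζ t * (g * k⁻¹) * c.ζ s = c.ζ s * ((g * k⁻¹)⁻¹ * c.ζ t * (g * k⁻¹)) := fun t ht s hs h => by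
      have := star hC hg (c.ζ_mem_Z ht) (hZ t ht) (hm s hs) h
      calc _ = (g * k⁻¹)⁻¹ * (c.ζ t * (g * k⁻¹ * c.ζ s * (g * k⁻¹)⁻¹)) * (g * k⁻¹) := by group
        _ = _ := by rw [← this]; group
    obtain ⟨r, hr, s, hs, rs, e3⟩ := Finset.exists_ne_map_eq_of_card_lt_of_maps_to
      (s := Finset.range 8) (t := c4L.toFinset) (by decide) (f := fun t => c.χ ((g * k⁻¹)⁻¹ * c.ζ t * (g * k⁻¹)))
      fun t ht => by
        have ht' : t < 8 := by simpa using ht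
        exact Finset.mem_coe.2 (List.mem_toFinset.2
          (c.χ_c4 (hu t ht') (hv t ht' (by norm_num) k2) (hv t ht' (by norm_num) k4)))
    rw [Finset.mem_range] at hr hs
    have e4 := c.χ_inv_mul (hu r hr) (hu s hs) e3
    have hK : Tech.cj g c.Z ≤ c.K := fun x hx => by
      obtain ⟨t, ht, e5⟩ := (c.mem_Z _).1 (Tech.mem_cj.1 ((c.cj_Z (inv_mem hk) g).2 hx))
      refine cent_Z hC (mul_mem (inv_mem (c.ζ_mem_Z hr)) (c.ζ_mem_Z hs))
        (fun e6 => rs (c.ζ_inj hr hs (inv_mul_eq_one.1 e6))) ?_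
      have := c.comm_of_χ (mul_mem (inv_mem (hu r hr)) (hu s hs)) e4 ht
      rw [← e5] at this
      calc _ = g * k⁻¹ * ((g * k⁻¹)⁻¹ * x * (g * k⁻¹) * (((g * k⁻¹)⁻¹ * c.ζ r * (g * k⁻¹))⁻¹ *
            ((g * k⁻¹)⁻¹ * c.ζ s * (g * k⁻¹)))) * (g * k⁻¹)⁻¹ := by group
        _ = _ := by rw [← this]; group
    exact case_three hC hg hK fun x hx => c.χ_eq_one_of_comm (hK hx) fun t ht =>
      star hC hg (c.ζ_mem_Z ht) (hZ t ht) hx (hK hx)
  refine case_two hC hg m2 m4 (hne 2 (by norm_num) (by norm_num)) k2 k4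
    (c.χ_c4 k2 (star hC hg (c.ζ_mem_Z (by norm_num)) h2 m2 k2) (b4 a2))
    (c.χ_c4 k4 (star hC hg (c.ζ_mem_Z (by norm_num)) h2 m4 k4) (b4 a4))
    (key _ m2 (hne 2 (by norm_num) (by norm_num)) k2) (key _ m4 (hne 4 (by norm_num) (by norm_num)) k4) fun e =>
    key _ (mul_mem (inv_mem m2) m4) (fun e' => ?_) (mul_mem (inv_mem k2) k4) (c.χ_inv_mul k2 k4 e)
  exact absurd (c.ζ_inj (by norm_num) (by norm_num) (mul_left_cancel (mul_right_cancel (inv_mul_eq_one.1 e'))))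
    (by norm_num : (2 : ℕ) ≠ 4)

end

end KC

theorem KC.notle [IsSimpleGroup G] (c : KC G) : ∃ h, c.H h ∧ h ∉ c.K := by
  by_contra! hC
  obtain ⟨x, hx, g, h1, h2⟩ : ∃ x ∈ c.Z, ∃ g, g * x * g⁻¹ ∈ c.K ∧ g * x * g⁻¹ ∉ c.Z := by
    by_contra! h
    obtain ⟨S, hL, hK, -⟩ := c.exists_sylow
    obtain ⟨l, hl, e⟩ := c.π_surj 1 (by norm_num)
    rcases Cfsg.Agent.S1169.result S c.Z (fun e => by have := c.card_Z; rw [e, card_bot] at this; omega)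
      ⟨⟨fun a b => Subtype.ext (c.Z_comm (c.Z_le_L a.2) b.2)⟩⟩
      ⟨c.Z_le_L.trans hL, fun x hx g hg => h x hx g (hK hg)⟩ with h1 | ⟨M, hM⟩
    · obtain ⟨l', hl', e'⟩ := c.π_surj 128 (by norm_num)
      have := (c.comm_iff hl hl').1 (congrArg Subtype.val (h1.is_comm.comm ⟨l, hL hl⟩ ⟨l', hL hl'⟩))
      rw [e, e'] at this
      exact absurd this (by decide +kernel)
    · obtain ⟨g, e1⟩ := BCor.se_isConj hM (c.orderOf_ζ (t := 4) (by norm_num) (by norm_num))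
        (orderOf_eq_two (z := l) (fun e' => by rw [e', c.π_one] at e; omega) (by
          rw [c.sq l hl, e, show sqv 1 = 0 by decide +kernel, c.ζ_zero]))
      have := (c.π_zero l hl).2 (e1 ▸ h _ (c.ζ_mem_Z (by norm_num)) g (e1.symm ▸ c.L_le hl))
      omega
  obtain ⟨k, hk, a2, a4⟩ := c.exists_fix_pair h1 (by rw [conj_mul, c.Z_sq hx, mul_one, mul_inv_cancel])
  have hy : k * (g * x * g⁻¹) * k⁻¹ ∈ Tech.cj (k * g) c.Z := by
    rw [Tech.cj_mul]; exact Tech.conj_mem_cj.2 (Tech.conj_mem_cj.2 hx)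
  have y1 : k * (g * x * g⁻¹) * k⁻¹ ≠ 1 := fun e => h2 (by rw [conj_eq_one_iff.1 e]; exact one_mem _)
  exact KC.notle_core hC (g := k * g) (fun e => h2 (c.Z_conj (by simpa using mul_mem (inv_mem hk) e) hx))
    (KC.cent_cj hC hy y1 a2.symm) (KC.cent_cj hC hy y1 a4.symm)

end CfsgLib.J4K
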